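import Groth.Agent.CatLim45.Types
import Mathlib.CategoryTheory.FinCategory.Basic
import Mathlib.CategoryTheory.Limits.Preserves.Basic
import Mathlib.Data.Fintype.Sigma
import Mathlib.Data.Fintype.OfMap

open CategoryTheory CategoryTheory.Limits

universe v

namespace Groth.Agent.CatLim45

variable {I : Type v} [SmallCategory I]
  (h1 : ∀ ⦃w x y : I⦄ (a : w ⟶ x) (b : w ⟶ y), ∃ (z : I) (c : x ⟶ z) (d : y ⟶ z), a ≫ c = b ≫ d)
  (h2 : ∀ ⦃x y : I⦄ (a b : x ⟶ y), ∃ (z : I) (c : y ⟶ z), a ≫ c = b ≫ c)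

include h1 in
lemma exists_cospan_finset {α : Type*} (p : α → I) (hp : ∀ a b, HasCospan (p a) (p b)) (a₀ : α)
    (s : Finset α) : ∃ k : I, Nonempty (p a₀ ⟶ k) ∧ ∀ a ∈ s, Nonempty (p a ⟶ k) := by
  classical
  induction s using Finset.induction_on with
  | empty => exact ⟨p a₀, ⟨𝟙 _⟩, by simp⟩
  | @insert b s _ ih =>
    obtain ⟨k, ⟨u⟩, hk⟩ := ih
    obtain ⟨z, ⟨q₀⟩, ⟨q⟩⟩ := hp a₀ b
    obtain ⟨w, c, d, -⟩ := h1 u q₀
    refine ⟨w, ⟨u ≫ c⟩, fun a ha => ?_⟩
    rcases Finset.mem_insert.1 ha with rfl | ha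
    · exact ⟨q ≫ d⟩
    · exact ⟨(hk a ha).some ≫ c⟩

include h1 in
/-- Finitely many eventual conditions on arrows out of `k` hold simultaneously. -/
lemma exists_forall_of_finite {α : Type*} [Finite α] {k : I} (P : α → ∀ ⦃l : I⦄, (k ⟶ l) → Prop)
    (hmono : ∀ a ⦃l m : I⦄ (φ : k ⟶ l) (ψ : l ⟶ m), P a φ → P a (φ ≫ ψ))
    (hex : ∀ a, ∃ (l : I) (φ : k ⟶ l), P a φ) : ∃ (l : I) (φ : k ⟶ l), ∀ a, P a φ := by
  classical
  cases nonempty_fintype α
  suffices ∀ s : Finset α, ∃ (l : I) (φ : k ⟶ l), ∀ a ∈ s, P a φ by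
    obtain ⟨l, φ, h⟩ := this Finset.univ
    exact ⟨l, φ, fun a => h a (Finset.mem_univ a)⟩
  intro s
  induction s using Finset.induction_on with
  | empty => exact ⟨k, 𝟙 _, by simp⟩
  | @insert b s _ ih =>
    obtain ⟨l, φ, hl⟩ := ih
    obtain ⟨m, ψ, hm⟩ := hex b
    obtain ⟨z, c, d, e⟩ := h1 φ ψ
    refine ⟨z, φ ≫ c, fun a ha => ?_⟩
    rcases Finset.mem_insert.1 ha with rfl | ha
    · exact e ▸ hmono _ ψ d hm
    · exact hmono a φ c (hl a ha)

include h1 h2 in
lemma exists_map_eq (F : I ⥤ Type v) {k : I} {x y : F.obj k}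
    (e : colimit.ι F k x = colimit.ι F k y) : ∃ (l : I) (φ : k ⟶ l), F.map φ x = F.map φ y := by
  obtain ⟨l, f, g, hfg⟩ := (colimit_ι_eq_iff h1 F x y).1 e
  obtain ⟨m, c, hc⟩ := h2 f g
  refine ⟨m, f ≫ c, ?_⟩
  conv_rhs => rw [hc]
  rw [Functor.map_comp_apply, hfg, ← Functor.map_comp_apply]

include h1 h2 in
theorem colim_preservesLimitsOfShape (J : Type) [SmallCategory J] [FinCategory J] [IsConnected J] :
    PreservesLimitsOfShape J (colim : (I ⥤ Type v) ⥤ Type v) := by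
  refine ⟨fun {K} => ⟨fun {c} hc => ?_⟩⟩
  rw [Types.isLimit_iff]
  intro s hs
  have hι : ∀ (i : I) {P Q : I ⥤ Type v} (φ : P ⟶ Q) (x : P.obj i),
      colim.map φ (colimit.ι P i x) = colimit.ι Q i (φ.app i x) :=
    fun i P Q φ x => congrArg (fun t => t x) (ι_colimMap φ i)
  choose idx rep hrep using fun a => Types.jointly_surjective' (s a)
  have hcos : ∀ a b : J, HasCospan (idx a) (idx b) := by
    refine fun a b => (zigzag_iff_hasCospan h1 _ _).1 ?_
    have key : ∀ {a b : J} (f : a ⟶ b), Zigzag (idx a) (idx b) := by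
      intro a b f
      have e : colimit.ι (K.obj b) (idx a) ((K.map f).app _ (rep a)) =
          colimit.ι (K.obj b) (idx b) (rep b) := by
        rw [← hι, hrep, hrep]
        exact hs f
      obtain ⟨k, p, q, -⟩ := (colimit_ι_eq_iff h1 (K.obj b) _ _).1 e
      exact (Zigzag.of_hom p).trans (Zigzag.of_inv q)
    induction (isPreconnected_zigzag (J := J) a b) with
    | refl => exact Zigzag.refl _
    | tail _ hbc ih =>
      rcases hbc with ⟨⟨f⟩⟩ | ⟨⟨f⟩⟩
      · exact ih.trans (key f)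
      · exact ih.trans (key f).symm
  obtain ⟨a₀⟩ := (IsConnected.is_nonempty : Nonempty J)
  obtain ⟨k₀, -, hk₀⟩ := exists_cospan_finset h1 idx hcos a₀ Finset.univ
  let t := fun a => (hk₀ a (Finset.mem_univ a)).some
  let x₀ : ∀ a, (K.obj a).obj k₀ := fun a => (K.obj a).map (t a) (rep a)
  have hx₀ : ∀ a, colimit.ι (K.obj a) k₀ (x₀ a) = s a := fun a =>
    (congrArg (fun u => u (rep a)) (colimit.w (K.obj a) (t a))).trans (hrep a)
  have : Finite (Σ a b : J, a ⟶ b) := by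
    have : Finite J := @Finite.of_fintype _ FinCategory.fintypeObj
    have : ∀ a b : J, Finite (a ⟶ b) := fun a b => @Finite.of_fintype _ (FinCategory.fintypeHom a b)
    cases nonempty_fintype J
    have : ∀ a b : J, Fintype (a ⟶ b) := fun a b => Fintype.ofFinite _
    exact Finite.of_fintype _
  obtain ⟨k₁, φ, hφ⟩ := exists_forall_of_finite h1 (k := k₀)
    (fun (m : Σ a b : J, a ⟶ b) _ φ =>
      (K.map m.2.2).app _ ((K.obj m.1).map φ (x₀ m.1)) = (K.obj m.2.1).map φ (x₀ m.2.1))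
    (fun m l l' φ ψ h => by
      change _ = _ at h ⊢
      rw [Functor.map_comp_apply, NatTrans.naturality_apply, h, ← Functor.map_comp_apply])
    (fun ⟨a, b, f⟩ => by
      obtain ⟨l, φ, hl⟩ := exists_map_eq h1 h2 (K.obj b) (x := (K.map f).app _ (x₀ a))
        (y := x₀ b) (by rw [← hι, hx₀, hx₀]; exact hs f)
      exact ⟨l, φ, by rw [NatTrans.naturality_apply]; exact hl⟩)
  have hc₁ := isLimitOfPreserves ((evaluation I (Type v)).obj k₁) hc
  let sec : ∀ a, ((evaluation I (Type v)).obj k₁).obj (K.obj a) := fun a => (K.obj a).map φ (x₀ a)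
  obtain ⟨z, hz, -⟩ := (Types.isLimit_iff _).1 ⟨hc₁⟩ sec (fun {a b} f => hφ ⟨a, b, f⟩)
  refine ⟨colimit.ι c.pt k₁ z, fun a => ?_, fun y hy => ?_⟩
  · refine (hι k₁ (c.π.app a) z).trans ?_
    rw [← hx₀ a]
    exact (congrArg (colimit.ι (K.obj a) k₁) (hz a)).trans
      (congrArg (fun u => u (x₀ a)) (colimit.w (K.obj a) φ))
  · obtain ⟨i, y, rfl⟩ := Types.jointly_surjective' y
    have hy' : ∀ a, colimit.ι (K.obj a) i ((c.π.app a).app i y) =
        colimit.ι (K.obj a) k₁ ((c.π.app a).app k₁ z) := fun a => by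
      refine ((hι i (c.π.app a) y).symm.trans (hy a)).trans ?_
      rw [← hx₀ a]
      exact ((congrArg (colimit.ι (K.obj a) k₁) (hz a)).trans
        (congrArg (fun u => u (x₀ a)) (colimit.w (K.obj a) φ))).symm
    obtain ⟨k, p, q, -⟩ := (colimit_ι_eq_iff h1 (K.obj a₀) _ _).1 (hy' a₀)
    obtain ⟨l, ψ, hψ⟩ := exists_forall_of_finite h1 (k := k)
      (fun a _ ψ => (c.π.app a).app _ (c.pt.map ψ (c.pt.map p y)) =
        (c.π.app a).app _ (c.pt.map ψ (c.pt.map q z)))
      (fun a l l' φ ψ h => by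
        change _ = _ at h ⊢
        rw [Functor.map_comp_apply, Functor.map_comp_apply]
        exact ((NatTrans.naturality_apply (c.π.app a) ψ _).trans (congrArg _ h)).trans
          (NatTrans.naturality_apply (c.π.app a) ψ _).symm)
      (fun a => by
        obtain ⟨l, φ, hl⟩ := exists_map_eq h1 h2 (K.obj a) (x := (K.obj a).map p ((c.π.app a).app i y))
          (y := (K.obj a).map q ((c.π.app a).app k₁ z))
          ((congrArg (fun (u : (K.obj a).obj i ⟶ colimit (K.obj a)) => u ((c.π.app a).app i y)) (colimit.w (K.obj a) p)).trans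
            ((hy' a).trans
              (congrArg (fun (u : (K.obj a).obj k₁ ⟶ colimit (K.obj a)) => u ((c.π.app a).app k₁ z)) (colimit.w (K.obj a) q)).symm))
        refine ⟨l, φ, ?_⟩
        refine ((NatTrans.naturality_apply (c.π.app a) φ _).trans ?_).trans
          (NatTrans.naturality_apply (c.π.app a) φ _).symm
        refine ((congrArg _ (NatTrans.naturality_apply (c.π.app a) p y)).trans hl).trans ?_
        exact (congrArg _ (NatTrans.naturality_apply (c.π.app a) q z)).symm)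
    have hc₂ := isLimitOfPreserves ((evaluation I (Type v)).obj l) hc
    have heq : c.pt.map ψ (c.pt.map p y) = c.pt.map ψ (c.pt.map q z) :=
      (Types.isLimitEquivSections hc₂).injective (Subtype.ext (funext fun a => hψ a))
    refine (colimit_ι_eq_iff h1 c.pt y z).2 ⟨l, p ≫ ψ, q ≫ ψ, ?_⟩
    rw [Functor.map_comp_apply, Functor.map_comp_apply, heq]

end Groth.Agent.CatLim45
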