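import Mathlib.CategoryTheory.IsConnected
import Mathlib.CategoryTheory.FinCategory.Basic
import Mathlib.CategoryTheory.Limits.Shapes.BinaryProducts
import Mathlib.CategoryTheory.Limits.Shapes.Equalizers
import Mathlib.CategoryTheory.Limits.Shapes.Pullback.HasPullback
import Mathlib.Data.Fintype.Sigma
import Mathlib.Data.Fintype.OfMap
import Mathlib.Data.Set.Finite.Basic
import Mathlib.Data.Set.Finite.Powerset
import Mathlib.Order.Preorder.Finite

open CategoryTheory CategoryTheory.Limits

universe v u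

namespace Groth.Agent.CatLim45

variable {C : Type u} [Category.{v} C] {J : Type} [SmallCategory J] (F : J ⥤ C)

/-- A limit of the part of a diagram given by some objects and some arrows. -/
structure PartialLimit (V : Set J) (E : Set (Σ a b : J, a ⟶ b)) where
  pt : C
  π : ∀ a, a ∈ V → (pt ⟶ F.obj a)
  w : ∀ m ∈ E, ∀ (ha : m.1 ∈ V) (hb : m.2.1 ∈ V), π m.1 ha ≫ F.map m.2.2 = π m.2.1 hb
  lift : ∀ {W : C} (f : ∀ a, a ∈ V → (W ⟶ F.obj a)),
    (∀ m ∈ E, ∀ (ha : m.1 ∈ V) (hb : m.2.1 ∈ V), f m.1 ha ≫ F.map m.2.2 = f m.2.1 hb) → (W ⟶ pt)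
  fac : ∀ {W : C} (f : ∀ a, a ∈ V → (W ⟶ F.obj a))
    (hf : ∀ m ∈ E, ∀ (ha : m.1 ∈ V) (hb : m.2.1 ∈ V), f m.1 ha ≫ F.map m.2.2 = f m.2.1 hb)
    (a : J) (ha : a ∈ V), lift f hf ≫ π a ha = f a ha
  hom_ext : ∀ {W : C} (g h : W ⟶ pt), (∀ a ha, g ≫ π a ha = h ≫ π a ha) → g = h
  mem_of : ∀ m ∈ E, m.1 ∈ V ∧ m.2.1 ∈ V

variable {F}

def PartialLimit.single (j : J) : PartialLimit F {j} ∅ where
  pt := F.obj j
  π a ha := eqToHom (by rw [Set.mem_singleton_iff.1 ha])
  w m hm := hm.elim
  lift f _ := f j rfl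
  fac f hf a ha := by
    obtain rfl := Set.mem_singleton_iff.1 ha
    simp
  hom_ext g h e := by simpa using e j rfl
  mem_of m hm := hm.elim

/-- Adding one equation by an equalizer. -/
noncomputable def PartialLimit.addArrow [HasEqualizers C] {V : Set J} {E : Set (Σ a b : J, a ⟶ b)}
    (P : PartialLimit F V E) (m : Σ a b : J, a ⟶ b) (ha : m.1 ∈ V) (hb : m.2.1 ∈ V) :
    PartialLimit F V (insert m E) where
  pt := equalizer (P.π m.1 ha ≫ F.map m.2.2) (P.π m.2.1 hb)
  π a h := equalizer.ι _ _ ≫ P.π a h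
  w m' hm' h h' := by
    rcases Set.mem_insert_iff.1 hm' with rfl | hm'
    · rw [Category.assoc]; exact equalizer.condition _ _
    · rw [Category.assoc, P.w m' hm' h h']
  lift f hf := equalizer.lift (P.lift f fun m' hm' => hf m' (Set.mem_insert_of_mem _ hm')) (by
    rw [← Category.assoc, P.fac, P.fac]
    exact hf m (Set.mem_insert _ _) ha hb)
  fac f hf a h := by rw [← Category.assoc, equalizer.lift_ι, P.fac]
  hom_ext g h e := by
    ext
    exact P.hom_ext _ _ fun a ha => by simpa using e a ha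
  mem_of m' hm' := by
    rcases Set.mem_insert_iff.1 hm' with rfl | hm'
    · exact ⟨ha, hb⟩
    · exact P.mem_of m' hm'

open scoped Classical in
/-- Adding an object with no equation, by a product. -/
noncomputable def PartialLimit.addObj [HasBinaryProducts C] {V : Set J}
    {E : Set (Σ a b : J, a ⟶ b)} (P : PartialLimit F V E) (b : J) (hb : b ∉ V) :
    PartialLimit F (insert b V) E where
  pt := P.pt ⨯ F.obj b
  π a ha := if h : a ∈ V then prod.fst ≫ P.π a h else
    prod.snd ≫ eqToHom (by rw [(Set.mem_insert_iff.1 ha).resolve_right h])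
  w m hm h h' := by
    obtain ⟨h₁, h₂⟩ := P.mem_of m hm
    rw [dif_pos h₁, dif_pos h₂, Category.assoc, P.w m hm h₁ h₂]
  lift f hf := prod.lift
    (P.lift (fun a h => f a (Set.mem_insert_of_mem _ h)) fun m hm h h' =>
      hf m hm (Set.mem_insert_of_mem _ h) (Set.mem_insert_of_mem _ h'))
    (f b (Set.mem_insert _ _))
  fac f hf a ha := by
    by_cases h : a ∈ V
    · rw [dif_pos h, ← Category.assoc, prod.lift_fst, P.fac]
    · obtain rfl := (Set.mem_insert_iff.1 ha).resolve_right h
      rw [dif_neg h, ← Category.assoc, prod.lift_snd]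
      simp
  hom_ext g h e := by
    ext
    · refine P.hom_ext _ _ fun a ha => ?_
      simpa [dif_pos ha] using e a (Set.mem_insert_of_mem _ ha)
    · simpa [dif_neg hb] using e b (Set.mem_insert _ _)
  mem_of m hm := ⟨Set.mem_insert_of_mem _ (P.mem_of m hm).1, Set.mem_insert_of_mem _ (P.mem_of m hm).2⟩

open scoped Classical in
/-- Adding the target of an arrow. -/
noncomputable def PartialLimit.addTarget {V : Set J} {E : Set (Σ a b : J, a ⟶ b)}
    (P : PartialLimit F V E) {a b : J} (f : a ⟶ b) (ha : a ∈ V) (hb : b ∉ V) :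
    PartialLimit F (insert b V) (insert ⟨a, b, f⟩ E) where
  pt := P.pt
  π c hc := if h : c ∈ V then P.π c h else
    P.π a ha ≫ F.map f ≫ eqToHom (by rw [(Set.mem_insert_iff.1 hc).resolve_right h])
  w m hm h h' := by
    rcases Set.mem_insert_iff.1 hm with rfl | hm
    · simp [dif_pos ha, dif_neg hb]
    · obtain ⟨h₁, h₂⟩ := P.mem_of m hm
      rw [dif_pos h₁, dif_pos h₂, P.w m hm h₁ h₂]
  lift f' hf := P.lift (fun c h => f' c (Set.mem_insert_of_mem _ h)) fun m hm h h' =>
      hf m (Set.mem_insert_of_mem _ hm) (Set.mem_insert_of_mem _ h) (Set.mem_insert_of_mem _ h')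
  fac f' hf c hc := by
    by_cases h : c ∈ V
    · rw [dif_pos h, P.fac]
    · obtain rfl := (Set.mem_insert_iff.1 hc).resolve_right h
      rw [dif_neg h, ← Category.assoc, P.fac]
      simpa using hf ⟨a, c, f⟩ (Set.mem_insert _ _) (Set.mem_insert_of_mem _ ha) hc
  hom_ext g h e := P.hom_ext _ _ fun c hc => by
    simpa [dif_pos hc] using e c (Set.mem_insert_of_mem _ hc)
  mem_of m hm := by
    rcases Set.mem_insert_iff.1 hm with rfl | hm
    · exact ⟨Set.mem_insert_of_mem _ ha, Set.mem_insert _ _⟩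
    · exact ⟨Set.mem_insert_of_mem _ (P.mem_of m hm).1, Set.mem_insert_of_mem _ (P.mem_of m hm).2⟩

open scoped Classical in
/-- Adding the source of an arrow by a pullback. -/
noncomputable def PartialLimit.addSource [HasPullbacks C] {V : Set J}
    {E : Set (Σ a b : J, a ⟶ b)} (P : PartialLimit F V E) {a b : J} (f : a ⟶ b) (ha : a ∉ V)
    (hb : b ∈ V) : PartialLimit F (insert a V) (insert ⟨a, b, f⟩ E) where
  pt := pullback (P.π b hb) (F.map f)
  π c hc := if h : c ∈ V then pullback.fst _ _ ≫ P.π c h else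
    pullback.snd _ _ ≫ eqToHom (by rw [(Set.mem_insert_iff.1 hc).resolve_right h])
  w m hm h h' := by
    rcases Set.mem_insert_iff.1 hm with rfl | hm
    · simp [dif_neg ha, dif_pos hb, pullback.condition]
    · obtain ⟨h₁, h₂⟩ := P.mem_of m hm
      rw [dif_pos h₁, dif_pos h₂, Category.assoc, P.w m hm h₁ h₂]
  lift f' hf := pullback.lift
    (P.lift (fun c h => f' c (Set.mem_insert_of_mem _ h)) fun m hm h h' =>
      hf m (Set.mem_insert_of_mem _ hm) (Set.mem_insert_of_mem _ h) (Set.mem_insert_of_mem _ h'))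
    (f' a (Set.mem_insert _ _))
    (by
      rw [P.fac]
      exact (hf ⟨a, b, f⟩ (Set.mem_insert _ _) (Set.mem_insert _ _)
        (Set.mem_insert_of_mem _ hb)).symm)
  fac f' hf c hc := by
    by_cases h : c ∈ V
    · rw [dif_pos h, ← Category.assoc, pullback.lift_fst, P.fac]
    · obtain rfl := (Set.mem_insert_iff.1 hc).resolve_right h
      rw [dif_neg h, ← Category.assoc, pullback.lift_snd]
      simp
  hom_ext g h e := by
    apply pullback.hom_ext
    · refine P.hom_ext _ _ fun c hc => ?_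
      simpa [dif_pos hc] using e c (Set.mem_insert_of_mem _ hc)
    · simpa [dif_neg ha] using e a (Set.mem_insert _ _)
  mem_of m hm := by
    rcases Set.mem_insert_iff.1 hm with rfl | hm
    · exact ⟨Set.mem_insert _ _, Set.mem_insert_of_mem _ hb⟩
    · exact ⟨Set.mem_insert_of_mem _ (P.mem_of m hm).1, Set.mem_insert_of_mem _ (P.mem_of m hm).2⟩

variable [FinCategory J]

lemma finite_arrows : Finite (Σ a b : J, a ⟶ b) := by
  have : Finite J := @Finite.of_fintype _ FinCategory.fintypeObj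
  cases nonempty_fintype J
  have : ∀ a b : J, Fintype (a ⟶ b) := FinCategory.fintypeHom
  exact Finite.of_fintype _

/-- A partial limit containing all objects gives a limit when equalizers exist. -/
lemma hasLimit_of_partialLimit [HasEqualizers C] {V : Set J} (hV : ∀ a, a ∈ V)
    {E : Set (Σ a b : J, a ⟶ b)} (P : PartialLimit F V E) : HasLimit F := by
  classical
  have := finite_arrows (J := J)
  cases nonempty_fintype (Σ a b : J, a ⟶ b)
  obtain ⟨E', hE', ⟨Q⟩⟩ : ∃ E', (∀ m, m ∈ E') ∧ Nonempty (PartialLimit F V E') := by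
    suffices ∀ s : Finset (Σ a b : J, a ⟶ b),
        ∃ E', (∀ m ∈ s, m ∈ E') ∧ Nonempty (PartialLimit F V E') by
      obtain ⟨E', h, hQ⟩ := this Finset.univ
      exact ⟨E', fun m => h m (Finset.mem_univ m), hQ⟩
    intro s
    induction s using Finset.induction_on with
    | empty => exact ⟨E, by simp, ⟨P⟩⟩
    | @insert m s _ ih =>
      obtain ⟨E', h, ⟨Q⟩⟩ := ih
      refine ⟨insert m E', fun m' hm' => ?_, ⟨Q.addArrow m (hV _) (hV _)⟩⟩
      rcases Finset.mem_insert.1 hm' with rfl | hm'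
      · exact Set.mem_insert _ _
      · exact Set.mem_insert_of_mem _ (h _ hm')
  let c : Cone F :=
    { pt := Q.pt
      π :=
        { app := fun a => Q.π a (hV a)
          naturality := fun a b f => by
            simpa using (Q.w ⟨a, b, f⟩ (hE' _) (hV a) (hV b)).symm } }
  exact ⟨⟨⟨c,
    { lift := fun s => Q.lift (fun a _ => s.π.app a) fun m _ _ _ => s.w m.2.2
      fac := fun s a => Q.fac _ _ a (hV a)
      uniq := fun s m hm => Q.hom_ext _ _ fun a ha => by
        rw [Q.fac]; exact hm a }⟩⟩⟩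

theorem hasLimitsOfShape_of_nonempty [HasBinaryProducts C] [HasEqualizers C] [Nonempty J] :
    HasLimitsOfShape J C := by
  refine ⟨fun F => ?_⟩
  classical
  let ⟨j₀⟩ := ‹Nonempty J›
  have : Finite J := @Finite.of_fintype _ FinCategory.fintypeObj
  cases nonempty_fintype J
  suffices ∀ s : Finset J, ∃ V, (∀ a ∈ s, a ∈ V) ∧ ∃ E, Nonempty (PartialLimit F V E) by
    obtain ⟨V, hV, E, ⟨P⟩⟩ := this Finset.univ
    exact hasLimit_of_partialLimit (fun a => hV a (Finset.mem_univ a)) P
  intro s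
  induction s using Finset.induction_on with
  | empty => exact ⟨{j₀}, by simp, ∅, ⟨PartialLimit.single j₀⟩⟩
  | @insert b s _ ih =>
    obtain ⟨V, hV, E, ⟨P⟩⟩ := ih
    by_cases hb : b ∈ V
    · exact ⟨V, by simpa [hb] using hV, E, ⟨P⟩⟩
    · refine ⟨insert b V, fun a ha => ?_, E, ⟨P.addObj b hb⟩⟩
      rcases Finset.mem_insert.1 ha with rfl | ha
      · exact Set.mem_insert _ _
      · exact Set.mem_insert_of_mem _ (hV a ha)

theorem hasLimitsOfShape_of_connected [HasPullbacks C] [HasEqualizers C] [IsConnected J] :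
    HasLimitsOfShape J C := by
  refine ⟨fun F => ?_⟩
  classical
  obtain ⟨j₀⟩ := (IsConnected.is_nonempty : Nonempty J)
  have : Finite J := @Finite.of_fintype _ FinCategory.fintypeObj
  obtain ⟨V, hmax⟩ := Set.Finite.exists_maximal
    (s := {V : Set J | ∃ E, Nonempty (PartialLimit F V E) ∧ j₀ ∈ V}) (Set.finite_univ.finite_subsets.subset fun V _ => Set.subset_univ V)
    ⟨{j₀}, ∅, ⟨PartialLimit.single j₀⟩, rfl⟩
  obtain ⟨E, ⟨P⟩, hj₀⟩ := hmax.1
  have grow : ∀ (b : J) (E' : Set (Σ a b : J, a ⟶ b)), PartialLimit F (insert b V) E' → b ∈ V :=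
    fun b E' Q => hmax.2 ⟨E', ⟨Q⟩, Set.mem_insert_of_mem _ hj₀⟩ (Set.subset_insert b V)
      (Set.mem_insert b V)
  refine hasLimit_of_partialLimit (V := V) ?_ P
  refine induct_on_objects V hj₀ fun {a b} f => ⟨fun ha => ?_, fun hb => ?_⟩
  · by_contra hb
    exact hb (grow b _ (P.addTarget f ha hb))
  · by_contra ha
    exact ha (grow a _ (P.addSource f ha hb))

end Groth.Agent.CatLim45
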