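import Mathlib.CategoryTheory.IsConnected
import Mathlib.CategoryTheory.FiberedCategory.Fiber
import Mathlib.CategoryTheory.Limits.HasLimits
import Mathlib.CategoryTheory.Adjunction.FullyFaithful
import Mathlib.CategoryTheory.Monoidal.Category
import Mathlib.CategoryTheory.Endofunctor.Algebra
import Mathlib.CategoryTheory.Limits.Preserves.Basic
import Mathlib.CategoryTheory.Limits.Creates
import Mathlib.CategoryTheory.Limits.Types.Filtered
import Mathlib.CategoryTheory.Limits.Yoneda
import Groth.Prelude.Def_W4stkcategoriessitesEss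

open CategoryTheory CategoryTheory.Limits Opposite

namespace Groth.Agent.CatLim45

universe v₁ u₁ v₂ u₂ v₃ u₃ w w'

section fibers

variable {I : Type u₁} [Category.{v₁} I] {I' : Type u₂} [Category.{v₂} I'] {C : Type u₃}
  [Category.{v₃} C] (F : I ⥤ I')

variable (h1 : ∀ x' : I', IsConnected (F.Fiber x'))
  (h2 : ∀ ⦃x' y' : I'⦄ (α' : x' ⟶ y'), ∃ (x y : I) (hx : F.obj x = x') (hy : F.obj y = y')
    (α : x ⟶ y), F.map α = eqToHom hx ≫ α' ≫ eqToHom hy.symm)
  (M : I' ⥤ C)

include h1 in
/-- A cocone on `F ⋙ M` is constant along connected fibres. -/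
lemma cocone_app_eq (c : Cocone (F ⋙ M)) {x y : I} (e : F.obj x = F.obj y) :
    c.ι.app x = M.map (eqToHom e) ≫ c.ι.app y := by
  have := h1 (F.obj y)
  let a : F.Fiber (F.obj y) := ⟨x, e⟩
  let b : F.Fiber (F.obj y) := ⟨y, rfl⟩
  have key : ∀ z w : F.Fiber (F.obj y),
      M.map (eqToHom z.2.symm) ≫ c.ι.app z.1 = M.map (eqToHom w.2.symm) ≫ c.ι.app w.1 := by
    apply constant_of_preserves_morphisms (fun z : F.Fiber (F.obj y) =>
      M.map (eqToHom z.2.symm) ≫ c.ι.app z.1)
    intro z w φ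
    have hz : F.IsHomLift (𝟙 (F.obj y)) φ.1 := φ.2
    have hF : F.map φ.1 = eqToHom z.2 ≫ eqToHom w.2.symm := by
      simpa using IsHomLift.fac' F (𝟙 (F.obj y)) φ.1
    rw [← c.w φ.1]
    simp only [Functor.comp_map, hF, ← Functor.map_comp_assoc]
    simp
  have h' : M.map (eqToHom e.symm) ≫ c.ι.app x = M.map (𝟙 (F.obj y)) ≫ c.ι.app y := key a b
  rw [M.map_id] at h'
  erw [Category.id_comp] at h'
  rw [← h', ← Category.assoc]
  erw [← M.map_comp, eqToHom_trans, eqToHom_refl, M.map_id, Category.id_comp]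

include h1 h2 in
theorem hasColimit_iff_of_connected_fibers :
    (HasColimit (F ⋙ M) ↔ HasColimit M) ∧
      ∀ [HasColimit (F ⋙ M)] [HasColimit M], IsIso (colimit.pre M F) := by
  have hs : ∀ x' : I', ∃ x : I, F.obj x = x' := fun x' => by
    have := h1 x'
    obtain ⟨z⟩ := (this.is_nonempty : Nonempty (F.Fiber x'))
    exact ⟨z.1, z.2⟩
  choose s hs using hs
  let ext : Cocone (F ⋙ M) → Cocone M := fun c =>
    { pt := c.pt
      ι :=
        { app := fun x' => M.map (eqToHom (hs x').symm) ≫ c.ι.app (s x')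
          naturality := fun x' y' α' => by
            obtain ⟨x, y, hx, hy, α, hα⟩ := h2 α'
            subst hx hy
            simp only [eqToHom_refl, Category.id_comp, Category.comp_id] at hα
            dsimp
            rw [Category.comp_id, cocone_app_eq F h1 M c (hs (F.obj x)),
              cocone_app_eq F h1 M c (hs (F.obj y)), ← c.w α]
            simp only [Functor.comp_map, hα, ← Category.assoc, ← Functor.map_comp]
            simp } }
  have hext : ∀ (c : Cocone (F ⋙ M)) (x : I), (ext c).ι.app (F.obj x) = c.ι.app x := fun c x => by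
    dsimp [ext]
    rw [cocone_app_eq F h1 M c (hs (F.obj x)), ← Functor.map_comp_assoc]
    simp
  have toM : ∀ {c : Cocone M}, IsColimit c → IsColimit (c.whisker F) := fun {c} hc =>
    { desc := fun d => hc.desc (ext d)
      fac := fun d x => (hc.fac (ext d) (F.obj x)).trans (hext d x)
      uniq := fun d m hm => hc.hom_ext fun x' => by
        have e : M.map (eqToHom (hs x').symm) ≫ c.ι.app (F.obj (s x')) = c.ι.app x' := c.w _
        rw [hc.fac, ← e, Category.assoc]
        exact congrArg (M.map _ ≫ ·) (hm (s x')) }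
  have toFM : ∀ {c : Cocone (F ⋙ M)}, IsColimit c → IsColimit (ext c) := fun {c} hc =>
    { desc := fun d => hc.desc (d.whisker F)
      fac := fun d x' => by
        simp only [ext, Category.assoc, hc.fac]
        exact d.w _
      uniq := fun d m hm => hc.hom_ext fun x => by
        rw [hc.fac, ← hext c x]
        exact hm (F.obj x) }
  refine ⟨⟨fun _ => ⟨⟨⟨_, toFM (colimit.isColimit (F ⋙ M))⟩⟩⟩,
    fun _ => ⟨⟨⟨_, toM (colimit.isColimit M)⟩⟩⟩⟩, ?_⟩
  intro _ _
  have : colimit.pre M F =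
      ((colimit.isColimit (F ⋙ M)).coconePointUniqueUpToIso (toM (colimit.isColimit M))).hom := by
    apply colimit.hom_ext
    intro j
    rw [colimit.ι_pre]
    exact ((colimit.isColimit (F ⋙ M)).comp_coconePointUniqueUpToIso_hom
      (toM (colimit.isColimit M)) j).symm
  rw [this]
  infer_instance

end fibers

section adj

variable {C : Type u₁} [Category.{v₁} C] {D : Type u₂} [Category.{v₂} D] {u : C ⥤ D} {v : D ⥤ C}

theorem fullyFaithful_of_comp_adjoint (adj : u ⊣ v) :
    ((u ⋙ v).Full → (u ⋙ v).Faithful → u.Full ∧ u.Faithful) ∧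
      ((v ⋙ u).Full → (v ⋙ u).Faithful → v.Full ∧ v.Faithful) := by
  constructor
  · intro _ _
    refine ⟨⟨fun {X Y} f => ?_⟩, Functor.Faithful.of_comp u v⟩
    obtain ⟨g, hg⟩ := (u ⋙ v).map_surjective (v.map f)
    refine ⟨g, (adj.homEquiv _ _).injective ?_⟩
    rw [adj.homEquiv_unit, adj.homEquiv_unit]
    exact congrArg (_ ≫ ·) hg
  · intro _ _
    refine ⟨⟨fun {X Y} f => ?_⟩, Functor.Faithful.of_comp v u⟩
    obtain ⟨g, hg⟩ := (v ⋙ u).map_surjective (u.map f)
    refine ⟨g, (adj.homEquiv _ _).symm.injective ?_⟩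
    rw [adj.homEquiv_counit, adj.homEquiv_counit]
    exact congrArg (· ≫ _) hg

end adj

section mon

open MonoidalCategory

variable {C : Type u₁} [Category.{v₁} C] [MonoidalCategory C]

theorem tensor_isEquivalence_iff (X : C) :
    ((tensorLeft X).IsEquivalence ↔ ∃ X' : C, Nonempty (X ⊗ X' ≅ 𝟙_ C) ∧ Nonempty (X' ⊗ X ≅ 𝟙_ C)) ∧
      ((tensorRight X).IsEquivalence ↔
        ∃ X' : C, Nonempty (X ⊗ X' ≅ 𝟙_ C) ∧ Nonempty (X' ⊗ X ≅ 𝟙_ C)) := by
  refine ⟨⟨fun h => ?_, fun ⟨X', ⟨e⟩, ⟨e'⟩⟩ => ?_⟩, ⟨fun h => ?_, fun ⟨X', ⟨e⟩, ⟨e'⟩⟩ => ?_⟩⟩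
  · let X' := (tensorLeft X).objPreimage (𝟙_ C)
    let e : X ⊗ X' ≅ 𝟙_ C := (tensorLeft X).objObjPreimageIso (𝟙_ C)
    exact ⟨X', ⟨e⟩, ⟨(tensorLeft X).preimageIso
      ((α_ X X' X).symm ≪≫ whiskerRightIso e X ≪≫ λ_ X ≪≫ (ρ_ X).symm)⟩⟩
  · exact (CategoryTheory.Equivalence.mk (tensorLeft X) (tensorLeft X')
      ((leftUnitorNatIso C).symm ≪≫ (tensoringLeft C).mapIso e'.symm ≪≫ tensorLeftTensor X' X)
      ((tensorLeftTensor X X').symm ≪≫ (tensoringLeft C).mapIso e ≪≫
        leftUnitorNatIso C)).isEquivalence_functor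
  · let X' := (tensorRight X).objPreimage (𝟙_ C)
    let e : X' ⊗ X ≅ 𝟙_ C := (tensorRight X).objObjPreimageIso (𝟙_ C)
    exact ⟨X', ⟨(tensorRight X).preimageIso
      (α_ X X' X ≪≫ whiskerLeftIso X e ≪≫ ρ_ X ≪≫ (λ_ X).symm)⟩, ⟨e⟩⟩
  · exact (CategoryTheory.Equivalence.mk (tensorRight X) (tensorRight X')
      ((rightUnitorNatIso C).symm ≪≫ (tensoringRight C).mapIso e.symm ≪≫ tensorRightTensor X X')
      ((tensorRightTensor X' X).symm ≪≫ (tensoringRight C).mapIso e' ≪≫
        rightUnitorNatIso C)).isEquivalence_functor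

end mon

section ess

theorem isEssConstInd_of_bijective {I : Type v₁} [SmallCategory I] [IsFiltered I] {C : Type u₁}
    [Category.{v₁} C] (M : I ⥤ C) (c : Cocone M)
    (h : ∀ W : C, Function.Bijective
      (colimit.desc (M ⋙ coyoneda.obj (op W)) ((coyoneda.obj (op W)).mapCocone c))) :
    CatLim.IsEssConstInd M c := by
  obtain ⟨t, ht⟩ := (h c.pt).2 (𝟙 c.pt)
  obtain ⟨i, s, rfl⟩ := Types.jointly_surjective' t
  have hs : s ≫ c.ι.app i = 𝟙 c.pt :=
    (congrArg (fun t => t s) (colimit.ι_desc ((coyoneda.obj (op c.pt)).mapCocone c) i)).symm.trans ht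
  refine ⟨i, s, hs, fun j => ?_⟩
  let K := M ⋙ coyoneda.obj (op (M.obj j))
  have hι : ∀ (l : I) (y : K.obj l), colimit.desc K ((coyoneda.obj (op (M.obj j))).mapCocone c)
      (colimit.ι K l y) = y ≫ c.ι.app l := fun l y =>
    congrArg (fun t => t y) (colimit.ι_desc ((coyoneda.obj (op (M.obj j))).mapCocone c) l)
  have e : colimit.ι K i (c.ι.app j ≫ s) = colimit.ι K j (𝟙 (M.obj j)) := by
    apply (h (M.obj j)).1
    refine ((hι i _).trans ?_).trans (hι j _).symm
    simp [hs]
  obtain ⟨k, a, b, hk⟩ := (Types.FilteredColimit.colimit_eq_iff K).1 e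
  refine ⟨k, a, b, ?_⟩
  have hk' : (c.ι.app j ≫ s) ≫ M.map a = 𝟙 _ ≫ M.map b := hk
  simpa using hk'.symm

end ess

section alg

variable {C : Type u₁} [Category.{v₁} C] (T : C ⥤ C)

@[instance_reducible]
noncomputable def createsColimitsOfShapeIsoAlgebra (J : Type w) [Category.{w'} J]
    [PreservesColimitsOfShape J T] :
    CreatesColimitsOfShape J
      ((ObjectProperty.ι (fun A : Endofunctor.Algebra T => IsIso A.str)) ⋙
        Endofunctor.Algebra.forget T) where
  CreatesColimit {K} := createsColimitOfReflectsIso fun c hc => by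
    let P : ObjectProperty (Endofunctor.Algebra T) := fun A => IsIso A.str
    let G := P.ι ⋙ Endofunctor.Algebra.forget T
    let N : K ⋙ G ⋙ T ≅ K ⋙ G := NatIso.ofComponents
      (fun j => @asIso _ _ _ _ (K.obj j).1.str (K.obj j).2)
      (fun {i j} f => by
        dsimp [G]
        exact (K.map f).hom.h)
    let hTc : IsColimit ((Cocone.precompose N.inv).obj (T.mapCocone c)) :=
      (IsColimit.precomposeInvEquiv N (T.mapCocone c)).symm (isColimitOfPreserves T hc)
    let e := hTc.coconePointUniqueUpToIso hc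
    have he : ∀ j, T.map (c.ι.app j) ≫ e.hom = (K.obj j).1.str ≫ c.ι.app j := fun j => by
      exact (Iso.inv_comp_eq (@asIso _ _ _ _ (K.obj j).1.str (K.obj j).2)).1
        ((Category.assoc _ _ _).symm.trans (hTc.comp_coconePointUniqueUpToIso_hom hc j))
    let A : P.FullSubcategory := ⟨⟨c.pt, e.hom⟩, inferInstanceAs (IsIso e.hom)⟩
    let lift : Cocone K :=
      { pt := A
        ι :=
          { app := fun j => ObjectProperty.homMk ⟨c.ι.app j, he j⟩
            naturality := fun i j f => by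
              ext
              change (K.map f).hom.f ≫ c.ι.app j = c.ι.app i ≫ 𝟙 _
              rw [Category.comp_id]
              exact c.w f } }
    refine { liftedCocone := lift, validLift := Cocone.ext (Iso.refl _) (fun j => Category.comp_id _), makesColimit := ?_ }
    refine
      { desc := fun s => ObjectProperty.homMk ⟨hc.desc (G.mapCocone s), ?_⟩
        fac := fun s j => ?_
        uniq := fun s m hm => ?_ }
    · apply (isColimitOfPreserves T hc).hom_ext
      intro j
      have hj : c.ι.app j ≫ hc.desc (G.mapCocone s) = (s.ι.app j).hom.f := hc.fac (G.mapCocone s) j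
      change T.map (c.ι.app j) ≫ T.map _ ≫ _ = T.map (c.ι.app j) ≫ e.hom ≫ _
      refine Eq.trans ?_ (((Category.assoc _ _ _).symm.trans (congrArg (· ≫ hc.desc (G.mapCocone s)) (he j))).trans (Category.assoc _ _ _)).symm
      refine ((T.map_comp_assoc _ _ _).symm.trans (congrArg (fun t => T.map t ≫ s.pt.obj.str) hj)).trans ?_
      exact (s.ι.app j).hom.h.trans (congrArg ((K.obj j).1.str ≫ ·) hj.symm)
    · ext
      exact hc.fac (G.mapCocone s) j
    · ext
      apply hc.uniq (G.mapCocone s)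
      intro j
      exact congrArg (fun t => t.hom.f) (hm j)

end alg

end Groth.Agent.CatLim45
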