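import Mathlib.CategoryTheory.IsConnected
import Mathlib.CategoryTheory.ConnectedComponents
import Mathlib.CategoryTheory.Filtered.Basic
import Mathlib.CategoryTheory.Limits.Types.Colimits
import Mathlib.CategoryTheory.Limits.Types.Limits
import Mathlib.CategoryTheory.Limits.Types.Products
import Mathlib.CategoryTheory.Limits.Preserves.Shapes.BinaryProducts
import Mathlib.CategoryTheory.Limits.FunctorCategory.Basic
import Mathlib.Algebra.Category.Grp.Colimits
import Mathlib.Algebra.Category.Grp.Limits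
import Mathlib.GroupTheory.QuotientGroup.Basic

open CategoryTheory CategoryTheory.Limits

universe v u

namespace Groth.Agent.CatLim45

/-- Two objects map to a common object. -/
def HasCospan {I : Type u} [Category.{v} I] (x y : I) : Prop :=
  ∃ z : I, Nonempty (x ⟶ z) ∧ Nonempty (y ⟶ z)

section

variable {I : Type u} [Category.{v} I]
  (h : ∀ ⦃x y z : I⦄ (f : x ⟶ y) (g : x ⟶ z), ∃ (w : I) (a : y ⟶ w) (b : z ⟶ w), f ≫ a = g ≫ b)

include h in
theorem zigzag_iff_hasCospan (x y : I) : Zigzag x y ↔ HasCospan x y := by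
  constructor
  · intro hxy
    induction hxy with
    | refl => exact ⟨x, ⟨𝟙 x⟩, ⟨𝟙 x⟩⟩
    | @tail b c _ hbc ih =>
      obtain ⟨z, ⟨p⟩, ⟨q⟩⟩ := ih
      rcases hbc with ⟨⟨f⟩⟩ | ⟨⟨f⟩⟩
      · obtain ⟨w, a, b', -⟩ := h q f
        exact ⟨w, ⟨p ≫ a⟩, ⟨b'⟩⟩
      · exact ⟨z, ⟨p⟩, ⟨f ≫ q⟩⟩
  · rintro ⟨z, ⟨p⟩, ⟨q⟩⟩
    exact (Zigzag.of_hom p).trans (Zigzag.of_inv q)

include h in
theorem isFiltered_component
    (h2 : ∀ ⦃x y : I⦄ (a b : x ⟶ y), ∃ (z : I) (c : y ⟶ z), a ≫ c = b ≫ c)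
    (j : ConnectedComponents I) : IsFiltered j.Component := by
  have : IsFilteredOrEmpty j.Component := by
    constructor
    · rintro ⟨x, hx⟩ ⟨y, hy⟩
      obtain ⟨z, ⟨p⟩, ⟨q⟩⟩ := (zigzag_iff_hasCospan h x y).1 (Quotient.exact' (hx.trans hy.symm))
      exact ⟨⟨z, (Quotient.sound' (Zigzag.of_inv p)).trans hx⟩, ObjectProperty.homMk p,
        ObjectProperty.homMk q, trivial⟩
    · rintro ⟨x, hx⟩ ⟨y, hy⟩ a b
      obtain ⟨z, c, hc⟩ := h2 a.hom b.hom
      exact ⟨⟨z, (Quotient.sound' (Zigzag.of_inv c)).trans hy⟩, ObjectProperty.homMk c,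
        ObjectProperty.hom_ext _ hc⟩
  exact { }

end

variable {I : Type v} [SmallCategory I]

/-- Equality in a colimit of types over an index category in which spans complete to squares. -/
theorem colimit_ι_eq_iff
    (h : ∀ ⦃x y z : I⦄ (f : x ⟶ y) (g : x ⟶ z), ∃ (w : I) (a : y ⟶ w) (b : z ⟶ w), f ≫ a = g ≫ b)
    (F : I ⥤ Type v) {i j : I} (x : F.obj i) (y : F.obj j) :
    colimit.ι F i x = colimit.ι F j y ↔ ∃ (k : I) (f : i ⟶ k) (g : j ⟶ k), F.map f x = F.map g y := by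
  constructor
  · intro e
    let r : (Σ i, F.obj i) → (Σ i, F.obj i) → Prop :=
      fun a b => ∃ (k : I) (f : a.1 ⟶ k) (g : b.1 ⟶ k), F.map f a.2 = F.map g b.2
    have : ∀ a b, Relation.EqvGen F.ColimitTypeRel a b → r a b := by
      intro a b hab
      induction hab with
      | rel a b hr =>
        obtain ⟨f, hf⟩ := hr
        exact ⟨b.1, f, 𝟙 _, by simp [hf]⟩
      | refl a => exact ⟨a.1, 𝟙 _, 𝟙 _, rfl⟩
      | symm a b _ ih =>
        obtain ⟨k, f, g, e⟩ := ih
        exact ⟨k, g, f, e.symm⟩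
      | trans a b c _ _ ih₁ ih₂ =>
        obtain ⟨k₁, f₁, g₁, e₁⟩ := ih₁
        obtain ⟨k₂, f₂, g₂, e₂⟩ := ih₂
        obtain ⟨w, p, q, hpq⟩ := h g₁ f₂
        refine ⟨w, f₁ ≫ p, g₂ ≫ q, ?_⟩
        rw [Functor.map_comp_apply, e₁, ← Functor.map_comp_apply, hpq, Functor.map_comp_apply, e₂,
          ← Functor.map_comp_apply]
    exact this ⟨i, x⟩ ⟨j, y⟩ (Types.colimit_eq e)
  · rintro ⟨k, f, g, e⟩
    rw [← colimit.w F f, ← colimit.w F g]
    exact congrArg (colimit.ι F k) e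

theorem colimMap_injective
    (h : ∀ ⦃x y z : I⦄ (f : x ⟶ y) (g : x ⟶ z), ∃ (w : I) (a : y ⟶ w) (b : z ⟶ w), f ≫ a = g ≫ b)
    {M N : I ⥤ Type v} (φ : M ⟶ N) (hφ : ∀ i, Function.Injective (φ.app i)) :
    Function.Injective (colimMap φ) := by
  intro a b e
  obtain ⟨i, x, rfl⟩ := Types.jointly_surjective' a
  obtain ⟨j, y, rfl⟩ := Types.jointly_surjective' b
  have e' : colimit.ι N i (φ.app i x) = colimit.ι N j (φ.app j y) := by
    have hι : ∀ (i : I) (x : M.obj i), colimMap φ (colimit.ι M i x) = colimit.ι N i (φ.app i x) :=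
      fun i x => congrArg (fun t => t x) (ι_colimMap φ i)
    rw [← hι, ← hι]
    exact e
  obtain ⟨k, f, g, hk⟩ := (colimit_ι_eq_iff h N _ _).1 e'
  refine (colimit_ι_eq_iff h M _ _).2 ⟨k, f, g, hφ k ?_⟩
  rw [NatTrans.naturality_apply, NatTrans.naturality_apply]
  exact hk

theorem prodComparison_colim_surjective
    (hI : ∀ x y : I, ∃ (z : I) (_ : x ⟶ z) (_ : y ⟶ z), True) (M N : I ⥤ Type v) :
    Function.Surjective (prodComparison (colim : (I ⥤ Type v) ⥤ Type v) M N) := by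
  intro p
  obtain ⟨i, x, hx⟩ := Types.jointly_surjective' ((prod.fst : colim.obj M ⨯ colim.obj N ⟶ _) p)
  obtain ⟨j, y, hy⟩ := Types.jointly_surjective' ((prod.snd : colim.obj M ⨯ colim.obj N ⟶ _) p)
  obtain ⟨k, f, g, -⟩ := hI i j
  let E := (evaluation I (Type v)).obj k
  let e : (M ⨯ N).obj k := inv (prodComparison E M N)
    ((Types.binaryProductIso (M.obj k) (N.obj k)).inv (M.map f x, N.map g y))
  have he : prodComparison E M N e =
      (Types.binaryProductIso (M.obj k) (N.obj k)).inv (M.map f x, N.map g y) :=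
    congrArg (fun (t : E.obj M ⨯ E.obj N ⟶ E.obj M ⨯ E.obj N) =>
      t ((Types.binaryProductIso (M.obj k) (N.obj k)).inv (M.map f x, N.map g y)))
      (IsIso.inv_hom_id (prodComparison E M N))
  have e1 : (prod.fst : M ⨯ N ⟶ M).app k e = M.map f x :=
    ((congrArg (fun t => t e) (prodComparison_fst (F := E) (A := M) (B := N))).symm.trans
      (congrArg (prod.fst : E.obj M ⨯ E.obj N ⟶ _) he)).trans
      (congrArg (fun (t : (M.obj k × N.obj k) ⟶ M.obj k) => t (M.map f x, N.map g y))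
        (Types.binaryProductIso_inv_comp_fst (M.obj k) (N.obj k)))
  have e2 : (prod.snd : M ⨯ N ⟶ N).app k e = N.map g y :=
    ((congrArg (fun t => t e) (prodComparison_snd (F := E) (A := M) (B := N))).symm.trans
      (congrArg (prod.snd : E.obj M ⨯ E.obj N ⟶ _) he)).trans
      (congrArg (fun (t : (M.obj k × N.obj k) ⟶ N.obj k) => t (M.map f x, N.map g y))
        (Types.binaryProductIso_inv_comp_snd (M.obj k) (N.obj k)))
  refine ⟨colimit.ι (M ⨯ N) k e, ?_⟩
  apply (Types.binaryProductIso _ _).toEquiv.injective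
  refine Prod.ext ?_ ?_
  · calc _ = (prod.fst : colim.obj M ⨯ colim.obj N ⟶ _)
          (prodComparison colim M N (colimit.ι (M ⨯ N) k e)) :=
        congrArg (fun (t : colim.obj M ⨯ colim.obj N ⟶ colim.obj M) =>
          t (prodComparison colim M N (colimit.ι (M ⨯ N) k e)))
          (Types.binaryProductIso_hom_comp_fst _ _)
      _ = colimMap (prod.fst : M ⨯ N ⟶ M) (colimit.ι (M ⨯ N) k e) :=
        congrArg (fun (t : colim.obj (M ⨯ N) ⟶ colim.obj M) => t (colimit.ι (M ⨯ N) k e))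
          (prodComparison_fst (F := colim) (A := M) (B := N))
      _ = colimit.ι M k ((prod.fst : M ⨯ N ⟶ M).app k e) :=
        congrArg (fun t => t e) (ι_colimMap (prod.fst : M ⨯ N ⟶ M) k)
      _ = colimit.ι M i x := by rw [e1]; exact congrArg (fun t => t x) (colimit.w M f)
      _ = (prod.fst : colim.obj M ⨯ colim.obj N ⟶ _) p := hx
      _ = _ := (congrArg (fun t => t p) (Types.binaryProductIso_hom_comp_fst _ _)).symm
  · calc _ = (prod.snd : colim.obj M ⨯ colim.obj N ⟶ _)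
          (prodComparison colim M N (colimit.ι (M ⨯ N) k e)) :=
        congrArg (fun (t : colim.obj M ⨯ colim.obj N ⟶ colim.obj N) =>
          t (prodComparison colim M N (colimit.ι (M ⨯ N) k e)))
          (Types.binaryProductIso_hom_comp_snd _ _)
      _ = colimMap (prod.snd : M ⨯ N ⟶ N) (colimit.ι (M ⨯ N) k e) :=
        congrArg (fun (t : colim.obj (M ⨯ N) ⟶ colim.obj N) => t (colimit.ι (M ⨯ N) k e))
          (prodComparison_snd (F := colim) (A := M) (B := N))
      _ = colimit.ι N k ((prod.snd : M ⨯ N ⟶ N).app k e) :=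
        congrArg (fun t => t e) (ι_colimMap (prod.snd : M ⨯ N ⟶ N) k)
      _ = colimit.ι N j y := by rw [e2]; exact congrArg (fun t => t y) (colimit.w N g)
      _ = (prod.snd : colim.obj M ⨯ colim.obj N ⟶ _) p := hy
      _ = _ := (congrArg (fun t => t p) (Types.binaryProductIso_hom_comp_snd _ _)).symm

theorem colimit_post_forget_surjective [Nonempty I]
    (hI : ∀ x y : I, ∃ (z : I) (_ : x ⟶ z) (_ : y ⟶ z), True) (M : I ⥤ AddCommGrpCat.{v}) :
    Function.Surjective (colimit.post M (forget AddCommGrpCat.{v})) := by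
  intro a
  obtain ⟨i0⟩ := ‹Nonempty I›
  let S : AddSubgroup ↑(colimit M) :=
    { carrier := {a | ∃ (i : I) (m : M.obj i), colimit.ι M i m = a}
      zero_mem' := ⟨i0, 0, map_zero _⟩
      neg_mem' := by
        rintro _ ⟨i, m, rfl⟩
        exact ⟨i, -m, map_neg _ _⟩
      add_mem' := by
        rintro _ _ ⟨i, m, rfl⟩ ⟨j, n, rfl⟩
        obtain ⟨k, f, g, -⟩ := hI i j
        refine ⟨k, M.map f m + M.map g n, ?_⟩
        rw [map_add, ← ConcreteCategory.comp_apply, ← ConcreteCategory.comp_apply, colimit.w,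
          colimit.w] }
  have key : AddCommGrpCat.ofHom (QuotientAddGroup.mk' S) =
      (0 : colimit M ⟶ AddCommGrpCat.of (↑(colimit M) ⧸ S)) := by
    apply colimit.hom_ext
    intro i
    ext m
    exact (QuotientAddGroup.eq_zero_iff _).2 ⟨i, m, rfl⟩
  have hmem : a ∈ S := (QuotientAddGroup.eq_zero_iff a).1 (congrArg (fun f => f a) key)
  obtain ⟨i, m, hm⟩ := hmem
  refine ⟨colimit.ι (M ⋙ forget _) i m, ?_⟩
  rw [← ConcreteCategory.comp_apply, colimit.ι_post]
  exact hm

end Groth.Agent.CatLim45
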