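import Mathlib.CategoryTheory.Limits.Final
import Mathlib.CategoryTheory.MorphismProperty.Composition
import Mathlib.CategoryTheory.FinCategory.Basic
import Mathlib.Data.Fintype.Sigma
import Mathlib.Data.Fintype.Prod
import Mathlib.Data.Fintype.Sum
import Mathlib.Data.Fintype.EquivFin

open CategoryTheory

universe v u

namespace Groth.Agent.CatLim45

/-- A finite graph of generators. -/
structure GenData where
  n : ℕ
  m : ℕ
  src : Fin m → Fin n
  tgt : Fin m → Fin n

/-- Two copies of the vertices, with arrows from the first to the second copy. -/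
structure Doubled (d : GenData) where
  side : Bool
  idx : Fin d.n
deriving DecidableEq

variable {d : GenData}

/-- Morphisms of the doubled category. -/
def Doubled.Hom : Doubled d → Doubled d → Type
  | ⟨false, a⟩, ⟨false, b⟩ => PLift (a = b)
  | ⟨false, a⟩, ⟨true, b⟩ => PLift (a = b) ⊕ {g : Fin d.m // d.src g = a ∧ d.tgt g = b}
  | ⟨true, _⟩, ⟨false, _⟩ => PEmpty
  | ⟨true, a⟩, ⟨true, b⟩ => PLift (a = b)

def Doubled.id : ∀ x : Doubled d, Doubled.Hom x x
  | ⟨false, _⟩ => ⟨rfl⟩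
  | ⟨true, _⟩ => ⟨rfl⟩

def Doubled.comp : ∀ {x y z : Doubled d}, Doubled.Hom x y → Doubled.Hom y z → Doubled.Hom x z
  | ⟨false, _⟩, ⟨false, _⟩, ⟨false, _⟩, ⟨f⟩, ⟨g⟩ => ⟨f.trans g⟩
  | ⟨false, _⟩, ⟨false, _⟩, ⟨true, _⟩, ⟨rfl⟩, g => g
  | ⟨false, _⟩, ⟨true, _⟩, ⟨true, _⟩, f, ⟨rfl⟩ => f
  | ⟨true, _⟩, ⟨true, _⟩, ⟨true, _⟩, ⟨f⟩, ⟨g⟩ => ⟨f.trans g⟩
  | _, ⟨true, _⟩, ⟨false, _⟩, _, g => PEmpty.elim g
  | ⟨true, _⟩, ⟨false, _⟩, _, f, _ => PEmpty.elim f

instance : SmallCategory (Doubled d) where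
  Hom := Doubled.Hom
  id := Doubled.id
  comp := Doubled.comp
  id_comp {x y} f := by
    rcases x with ⟨_ | _, a⟩ <;> rcases y with ⟨_ | _, b⟩ <;>
      first | exact PEmpty.elim f | rfl
  comp_id {x y} f := by
    rcases x with ⟨_ | _, a⟩ <;> rcases y with ⟨_ | _, b⟩ <;>
      first | exact PEmpty.elim f | rfl
  assoc {w x y z} f g h := by
    rcases w with ⟨_ | _, a⟩ <;> rcases x with ⟨_ | _, b⟩ <;>
      first
      | exact PEmpty.elim f
      | (rcases y with ⟨_ | _, c⟩ <;>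
          first
          | exact PEmpty.elim g
          | (rcases z with ⟨_ | _, e⟩ <;>
              first
              | exact PEmpty.elim h
              | rfl
              | (obtain ⟨rfl⟩ := g; rfl)
              | (obtain ⟨rfl⟩ := h; rfl)
))

def Doubled.equivProd : Doubled d ≃ Bool × Fin d.n where
  toFun x := (x.side, x.idx)
  invFun p := ⟨p.1, p.2⟩

instance : Fintype (Doubled d) := Fintype.ofEquiv _ Doubled.equivProd.symm

lemma Doubled.finite_hom (x y : Doubled d) : Finite (Doubled.Hom x y) := by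
  rcases x with ⟨_ | _, a⟩ <;> rcases y with ⟨_ | _, b⟩ <;> dsimp [Doubled.Hom] <;> infer_instance

noncomputable instance : FinCategory (Doubled d) where
  fintypeHom x y := @Fintype.ofFinite _ (Doubled.finite_hom x y)

section

variable {I : Type u} [Category.{v} I] (obj : Fin d.n → I)
  (gen : ∀ g : Fin d.m, obj (d.src g) ⟶ obj (d.tgt g))

/-- The functor out of the doubled category. -/
def Doubled.mapHom : ∀ {x y : Doubled d}, Doubled.Hom x y → (obj x.idx ⟶ obj y.idx)
  | ⟨false, _⟩, ⟨false, _⟩, ⟨h⟩ => eqToHom (congrArg obj h)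
  | ⟨false, _⟩, ⟨true, _⟩, Sum.inl ⟨h⟩ => eqToHom (congrArg obj h)
  | ⟨false, _⟩, ⟨true, _⟩, Sum.inr ⟨g, h⟩ =>
      eqToHom (congrArg obj h.1.symm) ≫ gen g ≫ eqToHom (congrArg obj h.2)
  | ⟨true, _⟩, ⟨false, _⟩, f => PEmpty.elim f
  | ⟨true, _⟩, ⟨true, _⟩, ⟨h⟩ => eqToHom (congrArg obj h)

def Doubled.functor : Doubled d ⥤ I where
  obj x := obj x.idx
  map f := Doubled.mapHom obj gen f
  map_id x := by rcases x with ⟨_ | _, a⟩ <;> rfl
  map_comp {x y z} f g := by
    rcases x with ⟨_ | _, a⟩ <;> rcases y with ⟨_ | _, b⟩ <;>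
      first
      | exact PEmpty.elim f
      | (rcases z with ⟨_ | _, c⟩ <;>
          first
          | exact PEmpty.elim g
          | (obtain ⟨rfl⟩ := f; exact (Category.id_comp _).symm)
          | (obtain ⟨rfl⟩ := g; exact (Category.comp_id _).symm))

variable (hobj : Function.Bijective obj)
  (hgen : ∀ P : MorphismProperty I, MorphismProperty.IsMultiplicative P → (∀ g, P (gen g)) → P = ⊤)

include hgen in
lemma Doubled.forall_map {R : ∀ {x y : I}, (x ⟶ y) → Prop} (hid : ∀ x, R (𝟙 x))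
    (hcomp : ∀ {x y z : I} (f : x ⟶ y) (g : y ⟶ z), R f → R g → R (f ≫ g))
    (hg : ∀ g, R (gen g)) {x y : I} (f : x ⟶ y) : R f := by
  let P : MorphismProperty I := fun _ _ f => R f
  have hP : MorphismProperty.IsMultiplicative P := { id_mem := hid, comp_mem := hcomp }
  have := hgen P hP hg
  change P f
  rw [this]
  trivial

/-- The arrow between the two copies of a vertex. -/
def Doubled.diag (a : Fin d.n) : (⟨false, a⟩ : Doubled d) ⟶ ⟨true, a⟩ := Sum.inl ⟨rfl⟩

/-- The arrow of a generator. -/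
def Doubled.edge (g : Fin d.m) : (⟨false, d.src g⟩ : Doubled d) ⟶ ⟨true, d.tgt g⟩ :=
  Sum.inr ⟨g, rfl, rfl⟩

/-- A structured arrow into the functor. -/
def Doubled.sa (a₀ : Fin d.n) (x : Doubled d) (α : obj a₀ ⟶ obj x.idx) :
    StructuredArrow (obj a₀) (Doubled.functor obj gen) :=
  StructuredArrow.mk (Y := x) α

/-- A costructured arrow out of the functor. -/
def Doubled.ca (a₀ : Fin d.n) (x : Doubled d) (α : obj x.idx ⟶ obj a₀) :
    CostructuredArrow (Doubled.functor obj gen) (obj a₀) :=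
  CostructuredArrow.mk (Y := x) α

include hobj hgen in
theorem Doubled.final : (Doubled.functor obj gen).Final := by
  constructor
  intro z
  obtain ⟨a₀, rfl⟩ := hobj.2 z
  let F := Doubled.functor obj gen
  have : Nonempty (StructuredArrow (obj a₀) F) := ⟨Doubled.sa obj gen a₀ ⟨true, a₀⟩ (𝟙 _)⟩
  have hside : ∀ (a : Fin d.n) (α : obj a₀ ⟶ obj a),
      Zigzag (Doubled.sa obj gen a₀ ⟨false, a⟩ α)
        (Doubled.sa obj gen a₀ ⟨true, a⟩ α) := fun a α =>
    Zigzag.of_hom (StructuredArrow.homMk (Doubled.diag a) (Category.comp_id _))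
  have key : ∀ {x y : I} (φ : x ⟶ y) (a b : Fin d.n) (hx : obj a = x) (hy : obj b = y)
      (α : obj a₀ ⟶ obj a),
      Zigzag (Doubled.sa obj gen a₀ ⟨true, a⟩ α)
        (Doubled.sa obj gen a₀ ⟨true, b⟩ (α ≫ eqToHom hx ≫ φ ≫ eqToHom hy.symm)) := by
    intro x y φ
    refine Doubled.forall_map obj gen hgen (R := fun {x y} φ => ∀ (a b : Fin d.n) (hx : obj a = x)
      (hy : obj b = y) (α : obj a₀ ⟶ obj a),
      Zigzag (Doubled.sa obj gen a₀ ⟨true, a⟩ α)
        (Doubled.sa obj gen a₀ ⟨true, b⟩ (α ≫ eqToHom hx ≫ φ ≫ eqToHom hy.symm))) ?_ ?_ ?_ φ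
    · intro x a b hx hy α
      obtain rfl := hobj.1 (hx.trans hy.symm)
      subst hx
      simp only [eqToHom_refl, Category.comp_id]
      exact Zigzag.refl _
    · intro x y z f g hf hg a c hx hz α
      obtain ⟨b, rfl⟩ := hobj.2 y
      have h₁ := hf a b hx rfl α
      have h₂ := hg b c rfl hz (α ≫ eqToHom hx ≫ f)
      simp only [eqToHom_refl, Category.comp_id, Category.id_comp, Category.assoc] at h₁ h₂ ⊢
      exact h₁.trans h₂
    · intro g a b hx hy α
      obtain rfl := hobj.1 hx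
      obtain rfl := hobj.1 hy
      refine (hside _ α).symm.trans (Zigzag.of_hom (StructuredArrow.homMk (Doubled.edge g) ?_))
      rfl
  refine zigzag_isConnected fun X Y => ?_
  suffices ∀ X : StructuredArrow (obj a₀) F,
      Zigzag (Doubled.sa obj gen a₀ ⟨true, a₀⟩ (𝟙 _)) X from
    (this X).symm.trans (this Y)
  intro X
  obtain ⟨⟨⟨⟩⟩, ⟨s, a⟩, α⟩ := X
  have h : Zigzag (Doubled.sa obj gen a₀ ⟨true, a₀⟩ (𝟙 _))
      (Doubled.sa obj gen a₀ ⟨true, a⟩ α) := by
    have h := key (x := obj a₀) (y := obj a) α a₀ a rfl rfl (𝟙 _)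
    simp only [eqToHom_refl, Category.id_comp] at h
    erw [Category.comp_id] at h
    exact h
  cases s
  · exact h.trans (hside a α).symm
  · exact h

include hobj hgen in
theorem Doubled.initial : (Doubled.functor obj gen).Initial := by
  constructor
  intro z
  obtain ⟨a₀, rfl⟩ := hobj.2 z
  let F := Doubled.functor obj gen
  have : Nonempty (CostructuredArrow F (obj a₀)) :=
    ⟨Doubled.ca obj gen a₀ ⟨false, a₀⟩ (𝟙 _)⟩
  have hside : ∀ (a : Fin d.n) (α : obj a ⟶ obj a₀),
      Zigzag (Doubled.ca obj gen a₀ ⟨false, a⟩ α)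
        (Doubled.ca obj gen a₀ ⟨true, a⟩ α) := fun a α =>
    Zigzag.of_hom (CostructuredArrow.homMk (Doubled.diag a) (Category.id_comp _))
  have key : ∀ {x y : I} (φ : x ⟶ y) (a b : Fin d.n) (hx : obj a = x) (hy : obj b = y)
      (α : obj b ⟶ obj a₀),
      Zigzag (Doubled.ca obj gen a₀ ⟨false, b⟩ α)
        (Doubled.ca obj gen a₀ ⟨false, a⟩ (eqToHom hx ≫ φ ≫ eqToHom hy.symm ≫ α)) := by
    intro x y φ
    refine Doubled.forall_map obj gen hgen (R := fun {x y} φ => ∀ (a b : Fin d.n) (hx : obj a = x)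
      (hy : obj b = y) (α : obj b ⟶ obj a₀),
      Zigzag (Doubled.ca obj gen a₀ ⟨false, b⟩ α)
        (Doubled.ca obj gen a₀ ⟨false, a⟩ (eqToHom hx ≫ φ ≫ eqToHom hy.symm ≫ α))) ?_ ?_ ?_ φ
    · intro x a b hx hy α
      obtain rfl := hobj.1 (hx.trans hy.symm)
      subst hx
      simp only [eqToHom_refl, Category.id_comp]
      exact Zigzag.refl _
    · intro x y z f g hf hg a c hx hz α
      obtain ⟨b, rfl⟩ := hobj.2 y
      have h₁ := hg b c rfl hz α
      have h₂ := hf a b hx rfl (g ≫ eqToHom hz.symm ≫ α)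
      simp only [eqToHom_refl, Category.id_comp, Category.assoc] at h₁ h₂ ⊢
      exact h₁.trans h₂
    · intro g a b hx hy α
      obtain rfl := hobj.1 hx
      obtain rfl := hobj.1 hy
      refine (hside _ α).trans (Zigzag.of_inv (CostructuredArrow.homMk (Doubled.edge g) ?_))
      exact (congrArg (· ≫ α) (by simp :
        eqToHom rfl ≫ gen g ≫ eqToHom rfl = gen g)).trans (by
        change gen g ≫ α = 𝟙 _ ≫ gen g ≫ 𝟙 _ ≫ α
        simp)
  refine zigzag_isConnected fun X Y => ?_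
  suffices ∀ X : CostructuredArrow F (obj a₀),
      Zigzag (Doubled.ca obj gen a₀ ⟨false, a₀⟩ (𝟙 _)) X from
    (this X).symm.trans (this Y)
  intro X
  obtain ⟨⟨s, a⟩, ⟨⟨⟩⟩, α⟩ := X
  have h : Zigzag (Doubled.ca obj gen a₀ ⟨false, a₀⟩ (𝟙 _))
      (Doubled.ca obj gen a₀ ⟨false, a⟩ α) := by
    have h := key (x := obj a) (y := obj a₀) α a a₀ rfl rfl (𝟙 _)
    simp only [eqToHom_refl, Category.id_comp] at h
    erw [Category.comp_id] at h
    exact h
  cases s
  · exact h
  · exact h.trans (hside a α)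

include hobj hgen in
theorem Doubled.isConnected_iff : IsConnected (Doubled d) ↔ IsConnected I := by
  constructor
  · intro h
    let F := Doubled.functor obj gen
    have : Nonempty I := ⟨F.obj (IsConnected.is_nonempty : Nonempty (Doubled d)).some⟩
    refine zigzag_isConnected fun x y => ?_
    obtain ⟨a, rfl⟩ := hobj.2 x
    obtain ⟨b, rfl⟩ := hobj.2 y
    exact zigzag_obj_of_zigzag F (isPreconnected_zigzag (⟨true, a⟩ : Doubled d) ⟨true, b⟩)
  · intro h
    obtain ⟨i⟩ := (IsConnected.is_nonempty : Nonempty I)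
    obtain ⟨a₀, rfl⟩ := hobj.2 i
    have : Nonempty (Doubled d) := ⟨⟨true, a₀⟩⟩
    have key : ∀ {x y : I} (φ : x ⟶ y) (a b : Fin d.n), obj a = x → obj b = y →
        Zigzag (⟨true, a⟩ : Doubled d) ⟨true, b⟩ := by
      intro x y φ
      refine Doubled.forall_map obj gen hgen (R := fun {x y} _ => ∀ (a b : Fin d.n), obj a = x →
        obj b = y → Zigzag (⟨true, a⟩ : Doubled d) ⟨true, b⟩) ?_ ?_ ?_ φ
      · intro x a b hx hy
        obtain rfl := hobj.1 (hx.trans hy.symm)
        exact Zigzag.refl _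
      · intro x y z f g hf hg a c hx hz
        obtain ⟨b, rfl⟩ := hobj.2 y
        exact (hf a b hx rfl).trans (hg b c rfl hz)
      · intro g a b hx hy
        obtain rfl := hobj.1 hx
        obtain rfl := hobj.1 hy
        exact (Zigzag.of_hom (Doubled.diag _)).symm.trans (Zigzag.of_hom (Doubled.edge g))
    refine zigzag_isConnected fun X Y => ?_
    suffices ∀ X : Doubled d, Zigzag (⟨true, a₀⟩ : Doubled d) X from
      (this X).symm.trans (this Y)
    intro X
    have h' : ∀ (x y : I), Zigzag x y → ∀ a b, obj a = x → obj b = y →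
        Zigzag (⟨true, a⟩ : Doubled d) ⟨true, b⟩ := by
      intro x y hxy
      induction hxy with
      | refl =>
        intro a b hx hy
        obtain rfl := hobj.1 (hx.trans hy.symm)
        exact Zigzag.refl _
      | @tail y z _ hyz ih =>
        intro a c hx hz
        obtain ⟨b, rfl⟩ := hobj.2 y
        refine (ih a b hx rfl).trans ?_
        rcases hyz with ⟨⟨f⟩⟩ | ⟨⟨f⟩⟩
        · exact key f b c rfl hz
        · exact (key f c b hz rfl).symm
    obtain ⟨s, a⟩ := X
    have h₀ := h' _ _ (isPreconnected_zigzag (obj a₀) (obj a)) a₀ a rfl rfl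
    cases s
    · exact h₀.trans (Zigzag.of_inv (Doubled.diag a))
    · exact h₀

end

theorem exists_finCategory_final_initial {I : Type u} [Category.{v} I] [Finite I]
    (gen : Finset (Σ x y : I, x ⟶ y))
    (hgen : ∀ P : MorphismProperty I, P.IsMultiplicative → (∀ a ∈ gen, P a.2.2) → P = ⊤) :
    ∃ (J : Type) (_ : SmallCategory J) (_ : FinCategory J) (F : J ⥤ I),
      F.Final ∧ F.Initial ∧ (IsConnected J ↔ IsConnected I) ∧ (Nonempty J ↔ Nonempty I) := by
  obtain ⟨n, ⟨e⟩⟩ := Finite.exists_equiv_fin I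
  obtain ⟨m, ⟨eg⟩⟩ := Finite.exists_equiv_fin gen
  let d : GenData := ⟨n, m, fun g => e (eg.symm g).1.1, fun g => e (eg.symm g).1.2.1⟩
  let g' : ∀ g : Fin d.m, e.symm (d.src g) ⟶ e.symm (d.tgt g) := fun g =>
    eqToHom (e.symm_apply_apply _) ≫ (eg.symm g).1.2.2 ≫ eqToHom (e.symm_apply_apply _).symm
  have hb : Function.Bijective e.symm := e.symm.bijective
  have hg : ∀ P : MorphismProperty I, MorphismProperty.IsMultiplicative P → (∀ g, P (g' g)) → P = ⊤ := by
    intro P hP h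
    refine hgen P hP fun a ha => ?_
    have h' := h (eg ⟨a, ha⟩)
    have hid : ∀ {x y : I} (p : x = y), P (eqToHom p) := fun p => by
      subst p; exact P.id_mem _
    have he : eg.symm (eg ⟨a, ha⟩) = ⟨a, ha⟩ := eg.symm_apply_apply _
    have h'' : P (eg.symm (eg ⟨a, ha⟩)).1.2.2 := by
      have := P.comp_mem _ _ (hid (e.symm_apply_apply (eg.symm (eg ⟨a, ha⟩)).1.1).symm)
        (P.comp_mem _ _ h' (hid (e.symm_apply_apply (eg.symm (eg ⟨a, ha⟩)).1.2.1)))
      simpa [g'] using this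
    rw [he] at h''
    exact h''
  refine ⟨Doubled d, inferInstance, inferInstance, Doubled.functor e.symm g',
    Doubled.final _ _ hb hg, Doubled.initial _ _ hb hg, Doubled.isConnected_iff _ _ hb hg,
    ⟨fun ⟨x⟩ => ⟨e.symm x.idx⟩, fun ⟨i⟩ => ⟨⟨true, e i⟩⟩⟩⟩

end Groth.Agent.CatLim45
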